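import Cfsg.Agent.H485.Frame
import Cfsg.Agent.KFacts.RgdLieCharP
import Cfsg.Agent.H519.LieRank
import Cfsg.Agent.LieRecognition.CoxForm
import Cfsg.Agent.FastGrp
import Cfsg.Agent.Prune
set_option linter.all false
prune_inst 0x7f00000000000000000000000000000000000000000000000000000000000000000000000000000000000000000000000000000000000000000000000000000000000000000000000000000000000000003fffffffffffffffffffffffffffbeffbdffffffff
open scoped Cfsg.Agent.FastGrp

-- part: H485/Nodes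
section
/-!
# Coprime groups of automorphisms fix the nodes of the diagram

* `Rigid M` : the symmetries of `M` of order prime to `6` are trivial;
* `diag_one` : an automorphism of order prime to `6` fixing the frame fixes the nodes of a rigid diagram;
* `rigid_of_card_le`, `rigid_cA`, `rigid_B`, `rigid_D`, `rigid_E6`, `rigid_E7`, `rigid_E8`.
-/

set_option autoImplicit false
set_option linter.unusedSectionVars false

namespace Cfsg.Agent.H485.Nodes

open CoxeterSystem Cfsg.Agent.ChevalleyStructure.CoxeterGeom Cfsg.Agent.Tits.Roots Cfsg.Agent.Tits.Core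
  Cfsg.Agent.Nodes.Reps Cfsg.Agent.Nodes.BNOf Cfsg.Agent.Nodes.Bruhat Cfsg.Agent.Nodes.OppDec
  Cfsg.Agent.KFacts.RgdAut Cfsg.Agent.KFacts.RgdDiag Cfsg.Agent.KFacts.RgdCharP Cfsg.Agent.H485.Frame

variable {I : Type*} [Fintype I] [DecidableEq I]

/-- The symmetries of the diagram of order prime to `6` are trivial. -/
def Rigid (M : CoxeterMatrix I) : Prop :=
  ∀ σ : Equiv.Perm I, (∀ i j, M (σ i) (σ j) = M i j) → ∀ k : ℕ, Nat.Coprime k 6 → σ ^ k = 1 → σ = 1

/-- A permutation of order prime to `6` acts trivially on an invariant set with at most four elements. -/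
theorem fix_of_card_le {σ : Equiv.Perm I} {k : ℕ} (hk : Nat.Coprime k 6) (hσ : σ ^ k = 1) {F : Finset I}
    (hF : F.card ≤ 4) (hinv : ∀ i ∈ F, σ i ∈ F) {i : I} (hi : i ∈ F) : σ i = i := by
  have hinv' : ∀ x, σ x ∈ F ↔ x ∈ F := by
    have h1 : F.map σ.toEmbedding = F := by
      apply Finset.eq_of_subset_of_card_le
      · intro x hx
        rw [Finset.mem_map] at hx
        obtain ⟨y, hy, rfl⟩ := hx
        exact hinv y hy
      · rw [Finset.card_map]
    intro x
    constructor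
    · intro hx
      rw [← h1, Finset.mem_map] at hx
      obtain ⟨y, hy, hyx⟩ := hx
      have : y = x := σ.injective hyx
      rwa [← this]
    · exact hinv x
  let τ : Equiv.Perm {x // x ∈ F} := σ.subtypePerm (fun x => hinv' x)
  have hτ : τ ^ k = 1 := by
    ext x
    rw [Equiv.Perm.subtypePerm_pow]
    change (σ ^ k) x = x
    rw [hσ]; rfl
  have h1 : orderOf τ ∣ k := orderOf_dvd_of_pow_eq_one hτ
  have h2 : orderOf τ ∣ 24 := by
    have h3 : orderOf τ ∣ Fintype.card (Equiv.Perm {x // x ∈ F}) := orderOf_dvd_card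
    rw [Fintype.card_perm, Fintype.card_coe] at h3
    exact h3.trans ((Nat.factorial_dvd_factorial hF).trans (by decide))
  have h3 : Nat.Coprime k 24 := by
    have h4 : Nat.Coprime k (6 * 6 * 6) := (hk.mul_right hk).mul_right hk
    exact h4.coprime_dvd_right (by norm_num)
  have h4 : orderOf τ = 1 := Nat.eq_one_of_dvd_coprimes h3 h1 h2
  rw [orderOf_eq_one_iff] at h4
  have h5 := congrArg (fun f : Equiv.Perm {x // x ∈ F} => ((f ⟨i, hi⟩ : {x // x ∈ F}) : I)) h4
  exact h5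

theorem rigid_of_card_le (M : CoxeterMatrix I) (h : Fintype.card I ≤ 4) : Rigid M := by
  intro σ _ k hk hσ
  ext i
  exact fix_of_card_le hk hσ (F := Finset.univ) (by rwa [Finset.card_univ]) (fun _ _ => Finset.mem_univ _)
    (Finset.mem_univ i)

/-- the neighbours of a node -/
def nb (M : CoxeterMatrix I) (i : I) : Finset I := Finset.univ.filter fun j => j ≠ i ∧ M i j ≠ 2

theorem mem_nb {M : CoxeterMatrix I} {i j : I} : j ∈ nb M i ↔ j ≠ i ∧ M i j ≠ 2 := by
  unfold nb; rw [Finset.mem_filter]; simp only [_root_.Finset.mem_univ, _root_.ne_eq, _root_.true_and]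

theorem map_nb {M : CoxeterMatrix I} {σ : Equiv.Perm I} (hσ : ∀ i j, M (σ i) (σ j) = M i j) {i j : I} :
    σ j ∈ nb M (σ i) ↔ j ∈ nb M i := by
  rw [mem_nb, mem_nb, hσ, Ne, σ.injective.eq_iff]

theorem card_nb {M : CoxeterMatrix I} {σ : Equiv.Perm I} (hσ : ∀ i j, M (σ i) (σ j) = M i j) (i : I) :
    (nb M (σ i)).card = (nb M i).card := by
  have h1 : nb M (σ i) = (nb M i).map σ.toEmbedding := by
    ext x
    rw [Finset.mem_map]
    constructor
    · intro hx
      refine ⟨σ.symm x, ?_, σ.apply_symm_apply x⟩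
      rw [← map_nb hσ, σ.apply_symm_apply]
      exact hx
    · rintro ⟨y, hy, rfl⟩
      exact (map_nb hσ).2 hy
  rw [h1, Finset.card_map]

/-- **The criterion**: connected, at most four neighbours, and between one and four nodes with at most `d`
neighbours. -/
theorem rigid_of_deg (M : CoxeterMatrix I) (hconn : Conn M) (hdeg : ∀ i, (nb M i).card ≤ 4) (d : ℕ)
    (hne : ∃ i, (nb M i).card ≤ d) (hd : (Finset.univ.filter fun i => (nb M i).card ≤ d).card ≤ 4) : Rigid M := by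
  intro σ hσ k hk hσk
  obtain ⟨i₀, hi₀⟩ := hne
  have h0 : σ i₀ = i₀ := fix_of_card_le hk hσk hd (fun i hi => by
    rw [Finset.mem_filter] at hi ⊢
    exact ⟨Finset.mem_univ _, by rw [card_nb hσ]; exact hi.2⟩) (by
    rw [Finset.mem_filter]; exact ⟨Finset.mem_univ _, hi₀⟩)
  by_contra hne
  have hJ : {i | σ i = i} ≠ Set.univ := by
    intro h1
    apply hne
    ext i
    have : i ∈ {i | σ i = i} := by rw [h1]; exact Set.mem_univ _
    exact this
  obtain ⟨a, ha, b, hb, hab⟩ := hconn {i | σ i = i} ⟨i₀, h0⟩ hJ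
  apply hb
  have ha' : σ a = a := ha
  refine fix_of_card_le hk hσk (hdeg a) (fun j hj => ?_) (i := b) ?_
  · have := (map_nb hσ).2 hj
    rwa [ha'] at this
  · rw [mem_nb]
    refine ⟨?_, hab⟩
    rintro rfl
    exact hb ha

/-! ### paths -/

/-- paths -/
theorem rigid_path {n : ℕ} (M : CoxeterMatrix (Fin n)) (hconn : Conn M)
    (hM : ∀ i j : Fin n, i ≠ j → (M i j ≠ 2 ↔ (i : ℕ) + 1 = j ∨ (j : ℕ) + 1 = i)) : Rigid M := by
  rcases Nat.lt_or_ge 4 n with hn | hn
  swap
  · exact rigid_of_card_le M (by rwa [Fintype.card_fin])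
  have hnb : ∀ i j : Fin n, j ∈ nb M i ↔ (i : ℕ) + 1 = j ∨ (j : ℕ) + 1 = i := by
    intro i j
    rw [mem_nb]
    constructor
    · rintro ⟨h1, h2⟩
      exact (hM i j (Ne.symm h1)).1 h2
    · intro h1
      have h2 : i ≠ j := by
        rintro rfl
        omega
      exact ⟨h2.symm, (hM i j h2).2 h1⟩
  have hle : ∀ i : Fin n, nb M i ⊆ ({⟨((i : ℕ) + 1) % n, Nat.mod_lt _ (by omega)⟩,
      ⟨((i : ℕ) - 1) % n, Nat.mod_lt _ (by omega)⟩} : Finset (Fin n)) := by
    intro i j hj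
    rw [Finset.mem_insert, Finset.mem_singleton]
    have h1 := j.2
    have h2 := i.2
    rcases (hnb i j).1 hj with h | h
    · left
      apply Fin.ext
      change (j : ℕ) = ((i : ℕ) + 1) % n
      rw [h, Nat.mod_eq_of_lt h1]
    · right
      apply Fin.ext
      change (j : ℕ) = ((i : ℕ) - 1) % n
      rw [← h, Nat.add_sub_cancel, Nat.mod_eq_of_lt h1]
  refine rigid_of_deg M hconn (fun i => ?_) 1 ⟨⟨0, by omega⟩, ?_⟩ ?_
  · exact (Finset.card_le_card (hle i)).trans (Finset.card_le_two.trans (by norm_num))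
  · rw [Finset.card_le_one_iff]
    intro a b ha hb
    apply Fin.ext
    rw [hnb] at ha hb
    simp only at ha hb
    omega
  · have h1 : (Finset.univ.filter fun i => (nb M i).card ≤ 1) ⊆
        ({⟨0, by omega⟩, ⟨n - 1, by omega⟩} : Finset (Fin n)) := by
      intro i hi
      rw [Finset.mem_filter] at hi
      by_contra hcon
      rw [Finset.mem_insert, Finset.mem_singleton, not_or] at hcon
      have h2 : (i : ℕ) ≠ 0 := fun h => hcon.1 (Fin.ext h)
      have h3 : (i : ℕ) ≠ n - 1 := fun h => hcon.2 (Fin.ext h)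
      have h4 := i.2
      have h5 : (⟨(i : ℕ) + 1, by omega⟩ : Fin n) = ⟨(i : ℕ) - 1, by omega⟩ :=
        Finset.card_le_one_iff.1 hi.2 ((hnb _ _).2 (Or.inl rfl)) ((hnb _ _).2 (Or.inr (by simp only; omega)))
      have h6 := congrArg Fin.val h5
      simp only at h6
      omega
    exact (Finset.card_le_card h1).trans (Finset.card_le_two.trans (by norm_num))

theorem rigid_cA {n : ℕ} (hconn : Conn (LieRecognition.BNCox.cA n)) : Rigid (LieRecognition.BNCox.cA n) := by
  refine rigid_path _ hconn fun i j hij => ?_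
  have h1 : (i : ℕ) ≠ j := fun h => hij (Fin.ext h)
  change LieRecognition.CoxClass.mA (i : ℕ) (j : ℕ) ≠ 2 ↔ _
  unfold LieRecognition.CoxClass.mA
  rw [if_neg h1]
  split_ifs with h2
  · simp [h2]
  · simp [h2]

theorem B_apply {n : ℕ} {i j : Fin n} (hij : i ≠ j) : CoxeterMatrix.B n i j =
    if (i : ℕ) = n - 1 ∧ (j : ℕ) = n - 2 ∨ (j : ℕ) = n - 1 ∧ (i : ℕ) = n - 2
      then 4 else (if (j : ℕ) + 1 = i ∨ (i : ℕ) + 1 = j then 3 else 2) := by
  show (if i = j then 1 else _) = _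
  rw [if_neg hij]

theorem rigid_B {n : ℕ} (hconn : Conn (CoxeterMatrix.B n)) : Rigid (CoxeterMatrix.B n) := by
  refine rigid_path _ hconn fun i j hij => ?_
  have h1 : (i : ℕ) ≠ j := fun h => hij (Fin.ext h)
  have h2 := i.2
  have h3 := j.2
  rw [B_apply hij]
  split_ifs with h4 h5
  · simp only [ne_eq, Nat.reduceEqDiff, not_false_eq_true, true_iff]; omega
  · simp only [ne_eq, Nat.reduceEqDiff, not_false_eq_true, true_iff]; omega
  · simp only [ne_eq, not_true_eq_false, false_iff]; omega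

/-! ### type `D` -/

theorem rigid_D {n : ℕ} (hconn : Conn (Cfsg.Agent.Nodes.TypeD.M n)) : Rigid (Cfsg.Agent.Nodes.TypeD.M n) := by
  rcases Nat.lt_or_ge 4 (n + 2) with hn | hn
  swap
  · exact rigid_of_card_le _ (by rwa [Fintype.card_fin])
  have hnb : ∀ i j : Fin (n + 2), j ∈ nb (Cfsg.Agent.Nodes.TypeD.M n) i ↔
      ((j : ℕ) < n + 1 ∧ (i : ℕ) + 1 = j ∨ (j : ℕ) = n + 1 ∧ (i : ℕ) + 2 = j) ∨
      ((i : ℕ) < n + 1 ∧ (j : ℕ) + 1 = i ∨ (i : ℕ) = n + 1 ∧ (j : ℕ) + 2 = i) := by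
    intro i j
    rw [mem_nb, Cfsg.Agent.Nodes.TypeD.M_apply]
    unfold Cfsg.Agent.Nodes.TypeD.Adj
    constructor
    · rintro ⟨h1, h2⟩
      rw [if_neg (Ne.symm h1)] at h2
      by_contra hcon
      rw [if_neg hcon] at h2
      exact h2 rfl
    · intro h1
      have h2 : j ≠ i := by
        rintro rfl
        omega
      refine ⟨h2, ?_⟩
      rw [if_neg h2.symm, if_pos h1]
      norm_num
  have hle : ∀ i : Fin (n + 2), nb (Cfsg.Agent.Nodes.TypeD.M n) i ⊆ ({⟨((i : ℕ) + 1) % (n + 2), Nat.mod_lt _ (by omega)⟩,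
      ⟨((i : ℕ) - 1) % (n + 2), Nat.mod_lt _ (by omega)⟩, ⟨n + 1, by omega⟩,
      ⟨((i : ℕ) - 2) % (n + 2), Nat.mod_lt _ (by omega)⟩} : Finset (Fin (n + 2))) := by
    intro i j hj
    simp only [Finset.mem_insert, Finset.mem_singleton]
    have h1 := j.2
    have h2 := i.2
    rcases (hnb i j).1 hj with (⟨h, h'⟩ | ⟨h, h'⟩) | (⟨h, h'⟩ | ⟨h, h'⟩)
    · left
      apply Fin.ext
      change (j : ℕ) = ((i : ℕ) + 1) % (n + 2)
      rw [h', Nat.mod_eq_of_lt h1]
    · right; right; left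
      apply Fin.ext
      exact h
    · right; left
      apply Fin.ext
      change (j : ℕ) = ((i : ℕ) - 1) % (n + 2)
      rw [← h', Nat.add_sub_cancel, Nat.mod_eq_of_lt h1]
    · right; right; right
      apply Fin.ext
      change (j : ℕ) = ((i : ℕ) - 2) % (n + 2)
      rw [← h', Nat.add_sub_cancel, Nat.mod_eq_of_lt h1]
  refine rigid_of_deg _ hconn (fun i => ?_) 1 ⟨⟨0, by omega⟩, ?_⟩ ?_
  · exact (Finset.card_le_card (hle i)).trans Finset.card_le_four
  · rw [Finset.card_le_one_iff]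
    intro a b ha hb
    apply Fin.ext
    rw [hnb] at ha hb
    simp only at ha hb
    omega
  · have h1 : (Finset.univ.filter fun i => (nb (Cfsg.Agent.Nodes.TypeD.M n) i).card ≤ 1) ⊆
        ({⟨0, by omega⟩, ⟨n, by omega⟩, ⟨n + 1, by omega⟩} : Finset (Fin (n + 2))) := by
      intro i hi
      rw [Finset.mem_filter] at hi
      by_contra hcon
      simp only [Finset.mem_insert, Finset.mem_singleton, not_or] at hcon
      have h2 : (i : ℕ) ≠ 0 := fun h => hcon.1 (Fin.ext h)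
      have h3 : (i : ℕ) ≠ n := fun h => hcon.2.1 (Fin.ext h)
      have h3' : (i : ℕ) ≠ n + 1 := fun h => hcon.2.2 (Fin.ext h)
      have h4 := i.2
      have h7 : (⟨(i : ℕ) + 1, by omega⟩ : Fin (n + 2)) ∈ nb (Cfsg.Agent.Nodes.TypeD.M n) i := by
        rw [hnb]
        exact Or.inl (Or.inl ⟨show (i : ℕ) + 1 < n + 1 by omega, rfl⟩)
      have h8 : (⟨(i : ℕ) - 1, by omega⟩ : Fin (n + 2)) ∈ nb (Cfsg.Agent.Nodes.TypeD.M n) i := by
        rw [hnb]
        exact Or.inr (Or.inl ⟨show (i : ℕ) < n + 1 by omega, show (i : ℕ) - 1 + 1 = i by omega⟩)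
      have h5 : (⟨(i : ℕ) + 1, by omega⟩ : Fin (n + 2)) = ⟨(i : ℕ) - 1, by omega⟩ :=
        Finset.card_le_one_iff.1 hi.2 h7 h8
      have h6 := congrArg Fin.val h5
      simp only at h6
      omega
    exact (Finset.card_le_card h1).trans (Finset.card_le_three.trans (by norm_num))

/-! ### types `E` -/

theorem rigid_E6 (hconn : Conn CoxeterMatrix.E₆) : Rigid CoxeterMatrix.E₆ :=
  rigid_of_deg _ hconn (by decide +kernel) 1 (by decide +kernel) (by decide +kernel)

theorem rigid_E7 (hconn : Conn CoxeterMatrix.E₇) : Rigid CoxeterMatrix.E₇ :=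
  rigid_of_deg _ hconn (by decide +kernel) 1 (by decide +kernel) (by decide +kernel)

theorem rigid_E8 (hconn : Conn CoxeterMatrix.E₈) : Rigid CoxeterMatrix.E₈ :=
  rigid_of_deg _ hconn (by decide +kernel) 1 (by decide +kernel) (by decide +kernel)

/-! ### groups with a root group datum -/

section

variable {W Y : Type*} [Group W] [Group Y] {M : CoxeterMatrix I}
  {cs : CoxeterSystem M W} {C : I → I → ℤ} {h : IsCartan M C} {p : ℕ} {T : Subgroup Y} {n : I → Y}
  {X : (I → ℤ) → Subgroup Y}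

/-- **Automorphisms of order prime to `6` fixing the frame fix the nodes.** -/
theorem diag_one [Finite W] (R : RGD cs h p T n X) (hG : GG cs h T X = ⊤) {a : MulAut Y}
    (hU : _root_.Cfsg.Agent.KFacts.RgdAut.Fix a (RGD.Sup X (RGD.Pos cs h))) (hUN : _root_.Cfsg.Agent.KFacts.RgdAut.Fix a (UN cs h X)) {k : ℕ} (hk6 : Nat.Coprime k 6) (hk : a ^ k = 1)
    (hM : Rigid M) : Diag T X a 1 := by
  obtain ⟨σ, hσ⟩ := exists_diag R hG hU hUN
  have h1 := hσ.pow k
  rw [hk] at h1
  have h2 : σ ^ k = 1 := by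
    ext i
    have h3 : X (sr ((σ ^ k) i)) = X (sr i) := by
      ext x
      exact h1.pos i x
    have h4 := X_injective R (isRoot_sr cs h _) (isRoot_sr cs h _) h3
    by_contra hne
    have hne' : (σ ^ k) i ≠ i := hne
    have h5 := congrFun h4 ((σ ^ k) i)
    rw [sr_self, sr_ne hne'] at h5
    exact one_ne_zero h5
  rw [hM σ (hσ.matrix R) k hk6 h2] at hσ
  exact hσ

end

end Cfsg.Agent.H485.Nodes
end

-- part: H485/Weyl
section
/-!
# Coprime groups of automorphisms: non-abelian 2-subgroups from the Weyl group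

* `two_group_of_pair` : two involutions whose product has 2-power order generate a 2-group;
* `NonAb W` : `W` contains two involutions generating a non-abelian 2-group;
* `not_nonAb` : if every element of `W` has a representative fixed by `A` and the 2-subgroups of `fx A` are abelian, then
  `¬ NonAb W`;
* `nonAb_of_four`, `nonAb_of_path` : Coxeter groups with a bond `4` or two adjacent bonds `3`.
-/

set_option autoImplicit false
set_option linter.unusedSectionVars false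

namespace Cfsg.Agent.H485.Weyl

open CoxeterSystem Cfsg.Agent.ChevalleyStructure.CoxeterGeom Cfsg.Agent.Tits.Roots Cfsg.Agent.Tits.Core
  Cfsg.Agent.Nodes.Reps Cfsg.Agent.Nodes.BNOf Cfsg.Agent.Nodes.Bruhat Cfsg.Agent.Nodes.OppDec
  Cfsg.Agent.KFacts.RgdAut Cfsg.Agent.KFacts.RgdDiag Cfsg.Agent.H485.Frame

theorem inv_of_sq {G : Type*} [Group G] {t : G} (ht : t * t = 1) : t⁻¹ = t := inv_eq_of_mul_eq_one_left ht

/-- Two involutions whose product has 2-power order generate a 2-group. -/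
theorem two_group_of_pair {G : Type*} [Group G] {t s : G} (ht : t * t = 1) (hss : s * s = 1) {k : ℕ}
    (hord : (t * s) ^ 2 ^ k = 1) : IsPGroup 2 (Subgroup.closure {t, s} : Subgroup G) := by
  have htinv : t⁻¹ = t := inv_of_sq ht
  have hsinv : s⁻¹ = s := inv_of_sq hss
  obtain ⟨a, ha⟩ : ∃ a : G, a = t * s := ⟨_, rfl⟩
  have hinv : t * a * t⁻¹ = a⁻¹ := by
    rw [ha, mul_inv_rev, hsinv, htinv, ← mul_assoc, ht, one_mul]
  have hA : IsPGroup 2 (Subgroup.zpowers a) := by
    rintro ⟨x, hx⟩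
    obtain ⟨n, rfl⟩ := Subgroup.mem_zpowers_iff.1 hx
    refine ⟨k, Subtype.ext ?_⟩
    change (a ^ n) ^ 2 ^ k = 1
    rw [← zpow_natCast, ← zpow_mul, mul_comm, zpow_mul, zpow_natCast, ha, hord, one_zpow]
  have hT : IsPGroup 2 (Subgroup.zpowers t) := by
    rintro ⟨x, hx⟩
    obtain ⟨n, rfl⟩ := Subgroup.mem_zpowers_iff.1 hx
    refine ⟨1, Subtype.ext ?_⟩
    change (t ^ n) ^ 2 ^ 1 = 1
    rw [pow_one, ← zpow_natCast, ← zpow_mul, mul_comm, zpow_mul, zpow_natCast, pow_two, ht, one_zpow]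
  have hnorm : Subgroup.zpowers t ≤
      Subgroup.normalizer ((Subgroup.zpowers a : Subgroup G) : Set G) := by
    rw [Subgroup.zpowers_le, Subgroup.mem_normalizer_iff]
    have hfor : ∀ h ∈ Subgroup.zpowers a, t * h * t⁻¹ ∈ Subgroup.zpowers a := by
      rintro h ⟨n, rfl⟩
      simp only
      rw [← conj_zpow, hinv]
      exact ⟨-n, by simp⟩
    intro h
    refine ⟨hfor h, fun hh => ?_⟩
    have := hfor _ hh
    rw [htinv] at this
    have h2 : t * (t * h * t) * t = h := by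
      calc t * (t * h * t) * t = (t * t) * h * (t * t) := by group
        _ = h := by rw [ht]; group
    rwa [h2] at this
  refine (IsPGroup.to_sup_of_normal_left' hA hT hnorm).to_le ?_
  rw [Subgroup.closure_le]
  intro w hw
  rcases hw with rfl | hw
  · exact Subgroup.mem_sup_right (Subgroup.mem_zpowers _)
  · rw [Set.mem_singleton_iff] at hw
    subst hw
    have : w = t⁻¹ * a := by rw [ha]; group
    rw [this]
    exact mul_mem (inv_mem (Subgroup.mem_sup_right (Subgroup.mem_zpowers _)))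
      (Subgroup.mem_sup_left (Subgroup.mem_zpowers _))

/-- The group contains two involutions which generate a non-abelian 2-group (of order at most 16). -/
def NonAb (W : Type*) [Group W] : Prop :=
  ∃ x y : W, x * x = 1 ∧ y * y = 1 ∧ (x * y) ^ 2 ^ 3 = 1 ∧ x * y ≠ y * x

/-- All 2-subgroups of `C` are abelian. -/
def AbTwo {Y : Type*} [Group Y] (C : Subgroup Y) : Prop :=
  ∀ Q : Subgroup Y, Q ≤ C → IsPGroup 2 Q → ∀ a ∈ Q, ∀ b ∈ Q, a * b = b * a

/-- A homomorphism from a group with abelian 2-subgroups onto a group. -/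
theorem not_nonAb_of_surj {Y W : Type*} [Group Y] [Finite Y] [Group W] {C : Subgroup Y} (hC : AbTwo C)
    (N : Subgroup Y) (hN : N ≤ C) (f : ↥N →* W) (hf : Function.Surjective f) : ¬ NonAb W := by
  rintro ⟨x, y, hx, hy, hxy, hne⟩
  apply hne
  have hD := two_group_of_pair hx hy hxy
  set D : Subgroup W := Subgroup.closure {x, y} with hDdef
  have : Fact (Nat.Prime 2) := ⟨Nat.prime_two⟩
  -- the preimage of `D`
  let P : Subgroup ↥N := D.comap f
  let g : ↥P →* ↥D := f.subgroupComap D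
  have hg : Function.Surjective g := by
    rintro ⟨w, hw⟩
    obtain ⟨a, ha⟩ := hf w
    exact ⟨⟨a, by rw [Subgroup.mem_comap, ha]; exact hw⟩, Subtype.ext ha⟩
  obtain ⟨Q⟩ : Nonempty (Sylow 2 ↥P) := inferInstance
  have : Finite ↥D := Finite.of_surjective g hg
  have htop : (Q : Subgroup ↥P).map g = ⊤ := by
    have h1 : ((Q.mapSurjective hg : Sylow 2 ↥D) : Subgroup ↥D) = ⊤ := by
      have h2 := (Q.mapSurjective hg).3 (Q := ⊤) ?_ le_top
      · exact h2.symm
      · exact hD.to_subgroup ⊤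
    exact h1
  have key : ∀ w ∈ D, ∃ q : ↥P, q ∈ (Q : Subgroup ↥P) ∧ f q = w := by
    intro w hw
    have h1 : (⟨w, hw⟩ : ↥D) ∈ (Q : Subgroup ↥P).map g := by rw [htop]; exact Subgroup.mem_top _
    obtain ⟨q, hq, hqw⟩ := h1
    exact ⟨q, hq, congrArg Subtype.val hqw⟩
  obtain ⟨a, ha, hax⟩ := key x (Subgroup.subset_closure (by simp))
  obtain ⟨b, hb, hby⟩ := key y (Subgroup.subset_closure (by simp))
  have h1 := hC (((Q : Subgroup ↥P).map P.subtype).map N.subtype) ((Subgroup.map_subtype_le _).trans hN)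
    ((Q.isPGroup'.map _).map _) ((a : ↥N) : Y) ⟨_, ⟨_, ha, rfl⟩, rfl⟩ ((b : ↥N) : Y) ⟨_, ⟨_, hb, rfl⟩, rfl⟩
  have h2 : (a : ↥N) * b = b * a := Subtype.ext h1
  rw [← hax, ← hby, ← map_mul, h2, map_mul]

section

variable {I W Y : Type*} [Fintype I] [DecidableEq I] [Group W] [Group Y] {M : CoxeterMatrix I}
  {cs : CoxeterSystem M W} {C : I → I → ℤ} {h : IsCartan M C} {p : ℕ} {T : Subgroup Y} {n : I → Y}
  {X : (I → ℤ) → Subgroup Y}

/-- a representative represents only one element -/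
theorem rp_inj [Finite W] (R : RGD cs h p T n X) {v w : W} {g : Y} (h1 : Rp cs R.nsys v g) (h2 : Rp cs R.nsys w g) :
    v = w := by
  have h3 := h1.inv.mul h2
  rw [inv_mul_cancel] at h3
  have h4 := R.eq_one_of_mem_B h3 (one_mem _)
  rwa [inv_mul_eq_one] at h4

/-- the homomorphism of `N` onto the Weyl group -/
noncomputable def toW [Finite W] (R : RGD cs h p T n X) : ↥(NN cs R.nsys) →* W where
  toFun g := (mem_NN.1 g.2).choose
  map_one' := rp_inj R (mem_NN.1 (1 : ↥(NN cs R.nsys)).2).choose_spec rp_one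
  map_mul' a b := rp_inj R (mem_NN.1 (a * b).2).choose_spec
    ((mem_NN.1 a.2).choose_spec.mul (mem_NN.1 b.2).choose_spec)

theorem toW_eq [Finite W] (R : RGD cs h p T n X) {g : ↥(NN cs R.nsys)} {w : W} (hg : Rp cs R.nsys w (g : Y)) :
    toW R g = w := rp_inj R (mem_NN.1 g.2).choose_spec hg

/-- **If the 2-subgroups of the fixed points are abelian, so are the small ones of the Weyl group.** -/
theorem not_nonAb [Finite W] [Finite Y] (R : RGD cs h p T n X) {A : Subgroup (MulAut Y)} (hC : AbTwo (fx A))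
    (hrp : ∀ w : W, ∃ g ∈ fx A, Rp cs R.nsys w g) : ¬ NonAb W := by
  refine not_nonAb_of_surj hC (fx A ⊓ NN cs R.nsys) inf_le_left
    ((toW R).comp (Subgroup.inclusion (inf_le_right : fx A ⊓ NN cs R.nsys ≤ NN cs R.nsys))) ?_
  intro w
  obtain ⟨g, hg, hw⟩ := hrp w
  exact ⟨⟨g, hg, mem_NN.2 ⟨w, hw⟩⟩, toW_eq R hw⟩

end

/-! ### Coxeter groups -/

section Cox

variable {I W : Type*} [Fintype I] [DecidableEq I] [Group W] [Finite W] {M : CoxeterMatrix I}
  (cs : CoxeterSystem M W)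

include cs

theorem nonAb_of_pow {i j : I} {k : ℕ} (hk : 2 ≤ k) (hk3 : k ≤ 3) (h4 : M i j = 2 ^ k) : NonAb W := by
  refine ⟨cs.simple i, cs.simple j, cs.simple_mul_simple_self i, cs.simple_mul_simple_self j, ?_, ?_⟩
  · have h1 := cs.simple_mul_simple_pow i j
    rw [h4] at h1
    obtain ⟨m, hm⟩ : ∃ m, 3 = k + m := ⟨3 - k, by omega⟩
    rw [hm, pow_add, pow_mul, h1, one_pow]
  · intro hcomm
    have h1 := LieRecognition.CoxForm.orderOf_eq cs i j
    have h2 : (cs.simple i * cs.simple j) ^ 2 = 1 := by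
      rw [pow_two]
      nth_rewrite 2 [hcomm]
      rw [mul_assoc, ← mul_assoc (cs.simple j), cs.simple_mul_simple_self, one_mul, cs.simple_mul_simple_self]
    have h3 := orderOf_dvd_of_pow_eq_one h2
    rw [h1, h4] at h3
    have h4 := Nat.le_of_dvd (by norm_num) h3
    have h5 : 2 ^ 2 ≤ 2 ^ k := Nat.pow_le_pow_right (by norm_num) hk
    omega

theorem nonAb_of_path {i j k : I} (hij : M i j = 3) (hjk : M j k = 3) (hik : M i k = 2) : NonAb W := by
  obtain ⟨a, ha⟩ : ∃ a, a = cs.simple i := ⟨_, rfl⟩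
  obtain ⟨b, hb⟩ : ∃ b, b = cs.simple j := ⟨_, rfl⟩
  obtain ⟨c, hc⟩ : ∃ c, c = cs.simple k := ⟨_, rfl⟩
  have haa : a * a = 1 := by rw [ha]; exact cs.simple_mul_simple_self i
  have hbb : b * b = 1 := by rw [hb]; exact cs.simple_mul_simple_self j
  have hcc : c * c = 1 := by rw [hc]; exact cs.simple_mul_simple_self k
  have hac : a * c = c * a := by
    have h1 := cs.simple_mul_simple_pow i k
    rw [hik, ← ha, ← hc, pow_two] at h1
    have h2 := inv_eq_of_mul_eq_one_left h1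
    rw [mul_inv_rev, inv_of_sq haa, inv_of_sq hcc] at h2
    exact h2.symm
  have hab : a * b * a = b * a * b := by
    have h1 := cs.simple_mul_simple_pow i j
    rw [hij, ← ha, ← hb] at h1
    have h3 : a * b * a * (b * a * b) = 1 := by
      rw [← h1]; simp only [pow_succ, pow_zero, one_mul]; group
    have h4 : (b * a * b)⁻¹ = b * a * b := by
      rw [mul_inv_rev, mul_inv_rev, inv_of_sq haa, inv_of_sq hbb]; group
    calc a * b * a = a * b * a * (b * a * b) * (b * a * b)⁻¹ := by group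
      _ = b * a * b := by rw [h3, h4, one_mul]
  have hbc : b * c * b = c * b * c := by
    have h1 := cs.simple_mul_simple_pow j k
    rw [hjk, ← hb, ← hc] at h1
    have h3 : b * c * b * (c * b * c) = 1 := by
      rw [← h1]; simp only [pow_succ, pow_zero, one_mul]; group
    have h4 : (c * b * c)⁻¹ = c * b * c := by
      rw [mul_inv_rev, mul_inv_rev, inv_of_sq hbb, inv_of_sq hcc]; group
    calc b * c * b = b * c * b * (c * b * c) * (c * b * c)⁻¹ := by group
      _ = c * b * c := by rw [h3, h4, one_mul]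
  have hne : a ≠ c := by
    intro h1
    have h2 := LieRecognition.CoxForm.orderOf_eq cs i k
    rw [← ha, ← hc, h1, hcc, orderOf_one, hik] at h2
    omega
  obtain ⟨u, hu⟩ : ∃ u, u = b * a * c * b := ⟨_, rfl⟩
  have huu : u * u = 1 := by
    calc u * u = b * a * c * (b * b) * a * c * b := by rw [hu]; group
      _ = b * a * (c * a) * c * b := by rw [hbb]; group
      _ = b * (a * a) * (c * c) * b := by rw [← hac]; group
      _ = 1 := by rw [haa, hcc, mul_one, mul_one, hbb]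
  have huau : u * a * u = c := by
    calc u * a * u = b * a * c * (b * a * b) * a * c * b := by rw [hu]; group
      _ = b * a * c * (a * b * a) * a * c * b := by rw [hab]
      _ = b * a * (c * a) * b * (a * a) * c * b := by group
      _ = b * a * (a * c) * b * c * b := by rw [haa, hac]; group
      _ = b * (a * a) * (c * b * c) * b := by group
      _ = b * (b * c * b) * b := by rw [haa, mul_one, ← hbc]
      _ = (b * b) * c * (b * b) := by group
      _ = c := by rw [hbb]; group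
  refine ⟨a, u, haa, huu, ?_, ?_⟩
  · have h2 : (a * u) ^ 2 = a * c := by
      rw [pow_two]
      calc a * u * (a * u) = a * (u * a * u) := by group
        _ = a * c := by rw [huau]
    have h4 : (a * u) ^ 4 = 1 := by
      rw [show 4 = 2 * 2 from rfl, pow_mul, h2, pow_two]
      calc a * c * (a * c) = a * (c * a) * c := by group
        _ = a * a * (c * c) := by rw [← hac]; group
        _ = 1 := by rw [haa, hcc, one_mul]
    rw [show 2 ^ 3 = 4 * 2 from rfl, pow_mul, h4, one_pow]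
  · intro h1
    apply hne
    have h2 : u * a * u = a := by rw [← h1, mul_assoc, huu, mul_one]
    rw [← h2, huau]

end Cox

end Cfsg.Agent.H485.Weyl
end

-- part: H485/TypList
section
/-!
# The types of the groups of Lie type, all characteristics

* `typ_PO_odd` : the root group datum of the odd dimensional orthogonal groups, type `B_m`;
* `Bad M` : the Coxeter group of `M` has small non-abelian 2-subgroups (a bond `4` or two adjacent bonds `3`);
* `list_of_lie` : a group of Lie type has a root group datum with a rigid bad diagram, or it is `PSL₂`, `PSL₃`, `PSU₃`,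
  `G₂`, `³D₄`, a Suzuki group or a Ree group.
-/

set_option autoImplicit false
set_option linter.unusedSectionVars false

namespace Cfsg.Agent.H485.TypList

open Cfsg
open CoxeterSystem Cfsg.Agent.ChevalleyStructure.CoxeterGeom Cfsg.Agent.Tits.Roots Cfsg.Agent.Tits.Core
  Cfsg.Agent.Nodes.Comb Cfsg.Agent.Nodes.Reps Cfsg.Agent.Nodes.BNOf Cfsg.Agent.FixBN
  Cfsg.Agent.Nodes.RGDLib Cfsg.Agent.Nodes.RGDChev Cfsg.Agent.LieRecognition.BNCox
  Cfsg.Agent.TitsThree Cfsg.Agent.Omega.ML.Ex.Typ Cfsg.Agent.H485.Nodes Cfsg.Agent.KFacts.RgdCharP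

section Orthogonal

open QuadraticMap
open Cfsg.Agent.LieClassical Cfsg.Agent.LieClassical.OrthCore Cfsg.Agent.LieClassical.OrthTrans
open Cfsg.Agent.LieClassical.OrthSimple Cfsg.Agent.LieClassical.OrthFinite
open Cfsg.Agent.LieClassical.OrthForms
open Cfsg.Agent.TitsThree.KSideO Cfsg.Agent.TitsThree.StdData
open Cfsg.Agent.Nodes Cfsg.Agent.Nodes.WittAll Cfsg.Agent.Nodes.WittU Cfsg.Agent.Nodes.WittInst
  Cfsg.Agent.TitsThree.Siegel Cfsg.Agent.TitsThree.SiegelGen
  Cfsg.Agent.TitsThree.WittFrame Cfsg.Agent.TitsThree.WBridge Cfsg.Agent.TitsThree.WittWeyl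
  Cfsg.Agent.TitsThree.FrameCN

variable {F : Type*} [Field F] {m : ℕ}

/-- **`PΩ_{2m+1}(F)`, `F` of odd characteristic.** -/
theorem typ_PO_odd [Finite F] (h2 : (2 : F) ≠ 0) (hm : 2 ≤ m) {p : ℕ} [Fact p.Prime] [CharP F p] :
    HasRGDT p (CoxeterMatrix.B m) (Cfsg.POmega F (Cfsg.quadFormOdd m F)) := by
  rw [← coe_oddForm]
  have hG : _root_.Cfsg.Agent.LieClassical.OrthTrans.Good (oddForm m F) := by
    apply good_of_finite (nondeg_oddForm m F h2)
    rw [Module.finrank_fintype_fun_eq_card, Fintype.card_sum, Fintype.card_sum, Fintype.card_fin,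
      Fintype.card_unit]
    omega
  have hp : ((embOdd m F).ngt ⟨1, -1 ^ 2, rfl⟩).c ≠ 0 := by
    change (1 : F)⁻¹ * (-1 ^ 2) ≠ 0
    simp
  exact typ_C (model (wodd m F) hG ⟨_, hp⟩) (AmbT.of_amb (amb_O_of_two _ h2) p) hp (by omega)

end Orthogonal

/-- The Coxeter group has small non-abelian 2-subgroups. -/
def Bad {I : Type*} (M : CoxeterMatrix I) : Prop :=
  (∃ i j, M i j = 4) ∨ ∃ i j k, M i j = 3 ∧ M j k = 3 ∧ M i k = 2

theorem cA_apply {n : ℕ} (i j : Fin n) : cA n i j = LieRecognition.CoxClass.mA (i : ℕ) (j : ℕ) := rfl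

theorem bad_cA {n : ℕ} (hn : 3 ≤ n) : Bad (cA n) := by
  refine Or.inr ⟨⟨0, by omega⟩, ⟨1, by omega⟩, ⟨2, by omega⟩, ?_, ?_, ?_⟩ <;>
  · rw [cA_apply]
    unfold LieRecognition.CoxClass.mA
    simp

theorem bad_B {m : ℕ} (hm : 2 ≤ m) : Bad (CoxeterMatrix.B m) := by
  refine Or.inl ⟨⟨m - 1, by omega⟩, ⟨m - 2, by omega⟩, ?_⟩
  rw [B_apply (by intro h; have := congrArg Fin.val h; simp only at this; omega)]
  simp only [_root_.and_self, _root_.true_or, ↓ _root_.reduceIte]

theorem bad_D (n : ℕ) (hn : 1 ≤ n) : Bad (Cfsg.Agent.Nodes.TypeD.M n) := by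
  refine Or.inr ⟨⟨n, by omega⟩, ⟨n - 1, by omega⟩, ⟨n + 1, by omega⟩, ?_, ?_, ?_⟩
  · have h1 : Cfsg.Agent.Nodes.TypeD.Adj (n := n) ⟨n - 1, by omega⟩ ⟨n, by omega⟩ :=
      Or.inl ⟨show n < n + 1 by omega, show n - 1 + 1 = n by omega⟩
    rw [Cfsg.Agent.Nodes.TypeD.M_apply, if_neg (by rw [Fin.mk.injEq]; omega), if_pos (Or.inr h1)]
  · have h1 : Cfsg.Agent.Nodes.TypeD.Adj (n := n) ⟨n - 1, by omega⟩ ⟨n + 1, by omega⟩ :=
      Or.inr ⟨rfl, show n - 1 + 2 = n + 1 by omega⟩
    rw [Cfsg.Agent.Nodes.TypeD.M_apply, if_neg (by rw [Fin.mk.injEq]; omega), if_pos (Or.inl h1)]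
  · rw [Cfsg.Agent.Nodes.TypeD.M_apply, if_neg (by rw [Fin.mk.injEq]; omega), if_neg]
    rintro ((⟨h, -⟩ | ⟨-, h⟩) | (⟨-, h⟩ | ⟨h, -⟩))
    · exact absurd (show n + 1 < n + 1 from h) (by omega)
    · exact absurd (show n + 2 = n + 1 from h) (by omega)
    · exact absurd (show n + 1 + 1 = n from h) (by omega)
    · exact absurd (show n = n + 1 from h) (by omega)

theorem bad_F4 : Bad CoxeterMatrix.F₄ := Or.inl ⟨1, 2, by decide⟩

theorem bad_E6 : Bad CoxeterMatrix.E₆ := Or.inr ⟨0, 2, 3, by decide, by decide, by decide⟩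
theorem bad_E7 : Bad CoxeterMatrix.E₇ := Or.inr ⟨0, 2, 3, by decide, by decide, by decide⟩
theorem bad_E8 : Bad CoxeterMatrix.E₈ := Or.inr ⟨0, 2, 3, by decide, by decide, by decide⟩

/-- A root group datum of characteristic `p` with a rigid bad diagram. -/
def BadRGD (p : ℕ) (G : Type*) [Group G] : Prop :=
  ∃ (l : ℕ) (M : CoxeterMatrix (Fin l)), (Conn M → Rigid M) ∧ Bad M ∧ HasRGDT p M G

theorem list_of_lie {p : ℕ} {G : Type*} [Group G] (hG : IsLieTypeChar p G) :
    BadRGD p G ∨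
    (∃ (F : Type) (_ : Field F) (_ : Fintype F) (_ : CharP F p), 4 ≤ Fintype.card F ∧
      Nonempty (G ≃* Matrix.ProjectiveSpecialLinearGroup (Fin 2) F)) ∨
    (∃ (F : Type) (_ : Field F) (_ : Fintype F) (_ : CharP F p),
      Nonempty (G ≃* Matrix.ProjectiveSpecialLinearGroup (Fin 3) F)) ∨
    (∃ (F : Type) (_ : Field F) (_ : Fintype F) (_ : CharP F p) (q : ℕ), Fintype.card F = q ^ 2 ∧ q ≠ 2 ∧
      Nonempty (G ≃* PSU 3 F q)) ∨
    (∃ (F : Type) (_ : Field F) (_ : Fintype F) (_ : CharP F p), Nonempty (G ≃* Lie.chevG2.group F)) ∨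
    (∃ (K : Type) (_ : Field K) (_ : Fintype K) (_ : CharP K p) (q : ℕ), IsPrimePow q ∧ Fintype.card K = q ^ 3 ∧
      Nonempty (G ≃* Lie.twistedD4 K q)) ∨
    (p = 2 ∧ Lie.IsoSuzuki G) ∨ (p = 2 ∧ Lie.Iso2F4 G) ∨ (p = 3 ∧ Lie.IsoRee G) := by
  rcases hG with h | h | h | h | h | h | h | h | h | h | h
  · obtain ⟨F, i1, i2, i3, n, hn, h4F, ⟨e⟩⟩ := h
    have : Fact p.Prime := Nodes.RGDClass.fact_prime (F := F)
    rcases (show n = 2 ∨ n = 3 ∨ 4 ≤ n by omega) with rfl | rfl | h4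
    · exact Or.inr (Or.inl ⟨F, i1, i2, i3, h4F rfl, ⟨e⟩⟩)
    · exact Or.inr (Or.inr (Or.inl ⟨F, i1, i2, i3, ⟨e⟩⟩))
    · obtain ⟨n, rfl⟩ : ∃ k, n = k + 1 := ⟨n - 1, by omega⟩
      exact Or.inl ⟨n, _, rigid_cA, bad_cA (by omega), (typ_PSL n).of_equiv e.symm⟩
  · obtain ⟨F, _, _, _, m, hm, -, ⟨e⟩⟩ := h
    have : Fact p.Prime := Nodes.RGDClass.fact_prime (F := F)
    exact Or.inl ⟨m, _, rigid_B, bad_B hm, (typ_PSp (by omega)).of_equiv e.symm⟩
  · obtain ⟨F, i1, i2, i3, n, q, hF, hn, hq, ⟨e⟩⟩ := h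
    have : Fact p.Prime := Nodes.RGDClass.fact_prime (F := F)
    rcases (show n = 3 ∨ 4 ≤ n by omega) with rfl | h4
    · exact Or.inr (Or.inr (Or.inr (Or.inl ⟨F, i1, i2, i3, q, hF, fun h => hq ⟨rfl, h⟩, ⟨e⟩⟩)))
    · obtain ⟨m, hm, h⟩ := typ_PSU (p := p) hF hn
      exact Or.inl ⟨m, _, rigid_B, bad_B (by omega), h.of_equiv e.symm⟩
  · obtain ⟨F, _, _, _, m, hm, hodd, ⟨e⟩⟩ := h
    have : Fact p.Prime := Nodes.RGDClass.fact_prime (F := F)
    have h2 : (2 : F) ≠ 0 := by
      intro h0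
      have h3 : CharP F 2 := CharTwo.of_one_ne_zero_of_two_eq_zero one_ne_zero h0
      obtain ⟨k, -, hk⟩ := FiniteField.card F 2
      rw [hk] at hodd
      exact absurd hodd (by
        rw [Nat.not_odd_iff_even]
        exact (even_two).pow_of_ne_zero k.ne_zero)
    exact Or.inl ⟨m, _, rigid_B, bad_B (by omega), (typ_PO_odd h2 (by omega)).of_equiv e.symm⟩
  · obtain ⟨F, _, _, _, m, hm, ⟨e⟩⟩ := h
    have : Fact p.Prime := Nodes.RGDClass.fact_prime (F := F)
    obtain ⟨n, rfl⟩ : ∃ n, m = n + 3 := ⟨m - 3, by omega⟩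
    exact Or.inl ⟨_, _, rigid_D, bad_D _ (by omega), (typ_PO_plus n).of_equiv e.symm⟩
  · obtain ⟨F, _, _, _, m, a, b, hm, hab, ⟨e⟩⟩ := h
    have : Fact p.Prime := Nodes.RGDClass.fact_prime (F := F)
    exact Or.inl ⟨m - 1, _, rigid_B, bad_B (by omega), (typ_PO_minus hab (by omega)).of_equiv e.symm⟩
  · obtain ⟨F, i1, i2, i3, ⟨-, ⟨e⟩⟩ | ⟨⟨e⟩⟩ | ⟨⟨e⟩⟩ | ⟨⟨e⟩⟩ | ⟨⟨e⟩⟩⟩ := h
    · exact Or.inr (Or.inr (Or.inr (Or.inr (Or.inl ⟨F, i1, i2, i3, ⟨e⟩⟩))))
    · exact Or.inl ⟨_, _, fun _ => rigid_of_card_le _ (by simp), bad_F4,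
        (typ_group (by simp [IsType, typeList]) F p).of_equiv e.symm⟩
    · exact Or.inl ⟨_, _, rigid_E6, bad_E6, (typ_group (by simp [IsType, typeList]) F p).of_equiv e.symm⟩
    · exact Or.inl ⟨_, _, rigid_E7, bad_E7, (typ_group (by simp [IsType, typeList]) F p).of_equiv e.symm⟩
    · exact Or.inl ⟨_, _, rigid_E8, bad_E8, (typ_group (by simp [IsType, typeList]) F p).of_equiv e.symm⟩
  · obtain ⟨K, i1, i2, i3, q, hq, ⟨hK, ⟨e⟩⟩ | ⟨hK, ⟨e⟩⟩⟩ := h
    · exact Or.inl ⟨_, _, fun _ => rigid_of_card_le _ (by simp), bad_F4, (typ_twE6 hq hK p).of_equiv e.symm⟩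
    · exact Or.inr (Or.inr (Or.inr (Or.inr (Or.inr (Or.inl ⟨K, i1, i2, i3, q, hq, hK, ⟨e⟩⟩)))))
  · exact Or.inr (Or.inr (Or.inr (Or.inr (Or.inr (Or.inr (Or.inl h))))))
  · exact Or.inr (Or.inr (Or.inr (Or.inr (Or.inr (Or.inr (Or.inr (Or.inl h)))))))
  · exact Or.inr (Or.inr (Or.inr (Or.inr (Or.inr (Or.inr (Or.inr (Or.inr h)))))))

end Cfsg.Agent.H485.TypList
end
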